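import Cfsg.Agent.Lib.Grp.U62.Defs

set_option autoImplicit false
set_option maxRecDepth 100000
set_option Elab.async false
set_option linter.unusedSectionVars false

namespace Cfsg.Agent.CG.U62

theorem c0 : allRange (chkBase 672 16 (appT tabs t55 0xffff) 0 (inv 0)) 0 672 = true := by decide +kernel
theorem c1 : allRange (chkBase 672 16 (appT tabs t55 0xffff) 1 (inv 1)) 0 672 = true := by decide +kernel
theorem c2 : allRange (chkBase 672 16 (appT tabs t55 0xffff) 2 (inv 2)) 0 672 = true := by decide +kernel
theorem c3 : chkDef 16 (appT tabs t55 0xffff) 3 (slp 3) 0 672 = true := by decide +kernel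
theorem c4 : chkDef 16 (appT tabs t55 0xffff) 4 (slp 4) 0 672 = true := by decide +kernel
theorem c5 : chkDef 16 (appT tabs t55 0xffff) 5 (slp 5) 0 672 = true := by decide +kernel
theorem c6 : chkDef 16 (appT tabs t55 0xffff) 6 (slp 6) 0 672 = true := by decide +kernel
theorem c7 : chkDef 16 (appT tabs t55 0xffff) 7 (slp 7) 0 672 = true := by decide +kernel
theorem c8 : chkDef 16 (appT tabs t55 0xffff) 8 (slp 8) 0 672 = true := by decide +kernel
theorem c9 : chkDef 16 (appT tabs t55 0xffff) 9 (slp 9) 0 672 = true := by decide +kernel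
theorem c10 : chkDef 16 (appT tabs t55 0xffff) 10 (slp 10) 0 672 = true := by decide +kernel
theorem c11 : chkDef 16 (appT tabs t55 0xffff) 11 (slp 11) 0 672 = true := by decide +kernel
theorem c12 : chkDef 16 (appT tabs t55 0xffff) 12 (slp 12) 0 672 = true := by decide +kernel
theorem c13 : chkDef 16 (appT tabs t55 0xffff) 13 (slp 13) 0 672 = true := by decide +kernel
theorem c14 : chkDef 16 (appT tabs t55 0xffff) 14 (slp 14) 0 672 = true := by decide +kernel
theorem c15 : chkDef 16 (appT tabs t55 0xffff) 15 (slp 15) 0 672 = true := by decide +kernel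
theorem c16 : chkDef 16 (appT tabs t55 0xffff) 16 (slp 16) 0 672 = true := by decide +kernel
theorem c17 : chkDef 16 (appT tabs t55 0xffff) 17 (slp 17) 0 672 = true := by decide +kernel
theorem c18 : chkDef 16 (appT tabs t55 0xffff) 18 (slp 18) 0 672 = true := by decide +kernel
theorem c19 : chkDef 16 (appT tabs t55 0xffff) 19 (slp 19) 0 672 = true := by decide +kernel
theorem c20 : chkDef 16 (appT tabs t55 0xffff) 20 (slp 20) 0 672 = true := by decide +kernel
theorem c21 : chkDef 16 (appT tabs t55 0xffff) 21 (slp 21) 0 672 = true := by decide +kernel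
theorem c22 : chkDef 16 (appT tabs t55 0xffff) 22 (slp 22) 0 672 = true := by decide +kernel
theorem c23 : chkDef 16 (appT tabs t55 0xffff) 23 (slp 23) 0 672 = true := by decide +kernel
theorem c24 : chkDef 16 (appT tabs t55 0xffff) 24 (slp 24) 0 672 = true := by decide +kernel
theorem c25 : chkDef 16 (appT tabs t55 0xffff) 25 (slp 25) 0 672 = true := by decide +kernel
theorem c26 : chkDef 16 (appT tabs t55 0xffff) 26 (slp 26) 0 672 = true := by decide +kernel
theorem c27 : chkDef 16 (appT tabs t55 0xffff) 27 (slp 27) 0 672 = true := by decide +kernel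
theorem c28 : chkDef 16 (appT tabs t55 0xffff) 28 (slp 28) 0 672 = true := by decide +kernel
theorem c29 : chkDef 16 (appT tabs t55 0xffff) 29 (slp 29) 0 672 = true := by decide +kernel
theorem c30 : chkDef 16 (appT tabs t55 0xffff) 30 (slp 30) 0 672 = true := by decide +kernel
theorem c31 : chkDef 16 (appT tabs t55 0xffff) 31 (slp 31) 0 672 = true := by decide +kernel
theorem c32 : chkDef 16 (appT tabs t55 0xffff) 32 (slp 32) 0 672 = true := by decide +kernel
theorem c33 : chkDef 16 (appT tabs t55 0xffff) 33 (slp 33) 0 672 = true := by decide +kernel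
theorem c34 : chkDef 16 (appT tabs t55 0xffff) 34 (slp 34) 0 672 = true := by decide +kernel
theorem c35 : chkDef 16 (appT tabs t55 0xffff) 35 (slp 35) 0 672 = true := by decide +kernel
theorem c36 : chkDef 16 (appT tabs t55 0xffff) 36 (slp 36) 0 672 = true := by decide +kernel
theorem c37 : chkDef 16 (appT tabs t55 0xffff) 37 (slp 37) 0 672 = true := by decide +kernel
theorem c38 : chkDef 16 (appT tabs t55 0xffff) 38 (slp 38) 0 672 = true := by decide +kernel
theorem c39 : chkDef 16 (appT tabs t55 0xffff) 39 (slp 39) 0 672 = true := by decide +kernel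
theorem c40 : chkDef 16 (appT tabs t55 0xffff) 40 (slp 40) 0 672 = true := by decide +kernel
theorem c41 : chkDef 16 (appT tabs t55 0xffff) 41 (slp 41) 0 672 = true := by decide +kernel
theorem c42 : chkDef 16 (appT tabs t55 0xffff) 42 (slp 42) 0 672 = true := by decide +kernel
theorem c43 : chkDef 16 (appT tabs t55 0xffff) 43 (slp 43) 0 672 = true := by decide +kernel
theorem c44 : chkDef 16 (appT tabs t55 0xffff) 44 (slp 44) 0 672 = true := by decide +kernel
theorem c45 : chkDef 16 (appT tabs t55 0xffff) 45 (slp 45) 0 672 = true := by decide +kernel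
theorem c46 : chkDef 16 (appT tabs t55 0xffff) 46 (slp 46) 0 672 = true := by decide +kernel
theorem c47 : chkDef 16 (appT tabs t55 0xffff) 47 (slp 47) 0 672 = true := by decide +kernel
theorem c48 : chkDef 16 (appT tabs t55 0xffff) 48 (slp 48) 0 672 = true := by decide +kernel
theorem c49 : chkDef 16 (appT tabs t55 0xffff) 49 (slp 49) 0 672 = true := by decide +kernel
theorem c50 : chkDef 16 (appT tabs t55 0xffff) 50 (slp 50) 0 672 = true := by decide +kernel
theorem c51 : chkDef 16 (appT tabs t55 0xffff) 51 (slp 51) 0 672 = true := by decide +kernel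
theorem c52 : chkDef 16 (appT tabs t55 0xffff) 52 (slp 52) 0 672 = true := by decide +kernel
theorem c53 : chkDef 16 (appT tabs t55 0xffff) 53 (slp 53) 0 672 = true := by decide +kernel
theorem c54 : chkDef 16 (appT tabs t55 0xffff) 54 (slp 54) 0 672 = true := by decide +kernel
theorem c55 : chkDef 16 (appT tabs t55 0xffff) 55 (false, []) 0 672 = true := by decide +kernel
theorem c56 : mc0.chk (appT tabs t55 0xffff) 1 671 = true := by decide +kernel
theorem c57 : mc1.chk (appT tabs t55 0xffff) 1 175 = true := by decide +kernel
theorem c58 : mc2.chk (appT tabs t55 0xffff) 1 134 = true := by decide +kernel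
theorem c59 : mc3.chk (appT tabs t55 0xffff) 1 2 = true := by decide +kernel
theorem c60 : mc4.chk (appT tabs t55 0xffff) 1 11 = true := by decide +kernel
theorem c61 : mc5.chk (appT tabs t55 0xffff) 1 7 = true := by decide +kernel
theorem c62 : mc6.chk (appT tabs t55 0xffff) 1 1 = true := by decide +kernel
theorem c63 : okcb 672 16 (bases mc) = true := by decide +kernel
theorem c64 : headAll (appT tabs t55 0xffff) mc [] = true := by decide +kernel
theorem c65 : tc0.head tcR = true := by decide +kernel
theorem c66 : allL (fun a => tc0.chk a 0 tc0.N) tc0.S = true := by decide +kernel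
theorem c67 : tc1.head tcR = true := by decide +kernel
theorem c68 : allL (fun a => tc1.chk a 0 tc1.N) tc1.S = true := by decide +kernel
theorem c69 : tc2.head tcR = true := by decide +kernel
theorem c70 : allL (fun a => tc2.chk a 0 tc2.N) tc2.S = true := by decide +kernel
theorem c71 : tc3.head tcR = true := by decide +kernel
theorem c72 : allL (fun a => tc3.chk a 0 tc3.N) tc3.S = true := by decide +kernel
theorem c73 : tc4.head tcR = true := by decide +kernel
theorem c74 : allL (fun a => tc4.chk a 0 tc4.N) tc4.S = true := by decide +kernel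
theorem c75 : tc5.head tcR = true := by decide +kernel
theorem c76 : allL (fun a => tc5.chk a 0 tc5.N) tc5.S = true := by decide +kernel
theorem c77 : tc6.head tcR = true := by decide +kernel
theorem c78 : allL (fun a => tc6.chk a 0 tc6.N) tc6.S = true := by decide +kernel
theorem c79 : tcLink tc [] [45,46,47,48,49,50,51,52,53,54] = true := by decide +kernel
theorem c80 : oneAll 16 (appT tabs t55 0xffff) [45,45] 0 672 = true := by decide +kernel
theorem c81 : oneAll 16 (appT tabs t55 0xffff) [46,46] 0 672 = true := by decide +kernel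
theorem c82 : oneAll 16 (appT tabs t55 0xffff) [47,47] 0 672 = true := by decide +kernel
theorem c83 : oneAll 16 (appT tabs t55 0xffff) [48,48] 0 672 = true := by decide +kernel
theorem c84 : oneAll 16 (appT tabs t55 0xffff) [46,45,46,45] 0 672 = true := by decide +kernel
theorem c85 : oneAll 16 (appT tabs t55 0xffff) [47,45,47,45] 0 672 = true := by decide +kernel
theorem c86 : oneAll 16 (appT tabs t55 0xffff) [48,45,48,45] 0 672 = true := by decide +kernel
theorem c87 : oneAll 16 (appT tabs t55 0xffff) [46,47,46,47] 0 672 = true := by decide +kernel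
theorem c88 : oneAll 16 (appT tabs t55 0xffff) [46,48,46,48] 0 672 = true := by decide +kernel
theorem c89 : oneAll 16 (appT tabs t55 0xffff) [47,48,47,48] 0 672 = true := by decide +kernel
theorem c90 : oneAll 16 (appT tabs t55 0xffff) [49,49] 0 672 = true := by decide +kernel
theorem c91 : oneAll 16 (appT tabs t55 0xffff) [49,45,49,45] 0 672 = true := by decide +kernel
theorem c92 : oneAll 16 (appT tabs t55 0xffff) [49,46,49,46,49,46] 0 672 = true := by decide +kernel
theorem c93 : oneAll 16 (appT tabs t55 0xffff) [49,47,49,47,49,47] 0 672 = true := by decide +kernel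
theorem c94 : oneAll 16 (appT tabs t55 0xffff) [49,48,49,48,49,48] 0 672 = true := by decide +kernel
theorem c95 : oneAll 16 (appT tabs t55 0xffff) [49,47,48,49,46,49,48,47,49,45,46,47,48] 0 672 = true := by decide +kernel
theorem c96 : oneAll 16 (appT tabs t55 0xffff) [50,51] 0 672 = true := by decide +kernel
theorem c97 : oneAll 16 (appT tabs t55 0xffff) [51,50] 0 672 = true := by decide +kernel
theorem c98 : oneAll 16 (appT tabs t55 0xffff) [50,50,50] 0 672 = true := by decide +kernel
theorem c99 : oneAll 16 (appT tabs t55 0xffff) [51,45,50,45] 0 672 = true := by decide +kernel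
theorem c100 : oneAll 16 (appT tabs t55 0xffff) [51,46,50,48] 0 672 = true := by decide +kernel
theorem c101 : oneAll 16 (appT tabs t55 0xffff) [51,47,50,47] 0 672 = true := by decide +kernel
theorem c102 : oneAll 16 (appT tabs t55 0xffff) [51,49,50,49] 0 672 = true := by decide +kernel
theorem c103 : oneAll 16 (appT tabs t55 0xffff) [50,46,51,45,46,47,48] 0 672 = true := by decide +kernel
theorem c104 : oneAll 16 (appT tabs t55 0xffff) [52,52] 0 672 = true := by decide +kernel
theorem c105 : oneAll 16 (appT tabs t55 0xffff) [52,47,52,47] 0 672 = true := by decide +kernel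
theorem c106 : oneAll 16 (appT tabs t55 0xffff) [52,45,52,45,47] 0 672 = true := by decide +kernel
theorem c107 : oneAll 16 (appT tabs t55 0xffff) [52,46,52,46,47] 0 672 = true := by decide +kernel
theorem c108 : oneAll 16 (appT tabs t55 0xffff) [52,48,52,45,46,48] 0 672 = true := by decide +kernel
theorem c109 : oneAll 16 (appT tabs t55 0xffff) [52,51,52,49,52,50,52,49] 0 672 = true := by decide +kernel
theorem c110 : oneAll 16 (appT tabs t55 0xffff) [52,51,52,50,52,50,52,51] 0 672 = true := by decide +kernel
theorem c111 : oneAll 16 (appT tabs t55 0xffff) [52,49,47,52,49,52,49,52,47,49] 0 672 = true := by decide +kernel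
theorem c112 : oneAll 16 (appT tabs t55 0xffff) [52,49,52,46,49,47,52,49,46,52,49,52,45,49,46,47,49] 0 672 = true := by decide +kernel
theorem c113 : oneAll 16 (appT tabs t55 0xffff) [53,53] 0 672 = true := by decide +kernel
theorem c114 : oneAll 16 (appT tabs t55 0xffff) [53,45,53,45] 0 672 = true := by decide +kernel
theorem c115 : oneAll 16 (appT tabs t55 0xffff) [53,50,53,51] 0 672 = true := by decide +kernel
theorem c116 : oneAll 16 (appT tabs t55 0xffff) [53,46,53,46,53,46] 0 672 = true := by decide +kernel
theorem c117 : oneAll 16 (appT tabs t55 0xffff) [53,47,53,47,53,47] 0 672 = true := by decide +kernel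
theorem c118 : oneAll 16 (appT tabs t55 0xffff) [53,47,49,53,47,49,51] 0 672 = true := by decide +kernel
theorem c119 : oneAll 16 (appT tabs t55 0xffff) [53,47,52,49,52,53,47,52,49,52] 0 672 = true := by decide +kernel
theorem c120 : oneAll 16 (appT tabs t55 0xffff) [53,52,50,52,53,47,49,50,52,51,52] 0 672 = true := by decide +kernel
theorem c121 : oneAll 16 (appT tabs t55 0xffff) [54,54] 0 672 = true := by decide +kernel
theorem c122 : oneAll 16 (appT tabs t55 0xffff) [54,45,54,45] 0 672 = true := by decide +kernel
theorem c123 : oneAll 16 (appT tabs t55 0xffff) [54,46,54,46] 0 672 = true := by decide +kernel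
theorem c124 : oneAll 16 (appT tabs t55 0xffff) [54,47,54,47] 0 672 = true := by decide +kernel
theorem c125 : oneAll 16 (appT tabs t55 0xffff) [54,48,54,48] 0 672 = true := by decide +kernel
theorem c126 : oneAll 16 (appT tabs t55 0xffff) [54,49,54,49] 0 672 = true := by decide +kernel
theorem c127 : oneAll 16 (appT tabs t55 0xffff) [54,52,54,52] 0 672 = true := by decide +kernel
theorem c128 : oneAll 16 (appT tabs t55 0xffff) [54,50,54,52,50,52] 0 672 = true := by decide +kernel
theorem c129 : oneAll 16 (appT tabs t55 0xffff) [54,53,54,53,54,45,53] 0 672 = true := by decide +kernel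
theorem c130 : oneAll 16 (appT tabs t55 0xffff) [45,54,53,52,53,54,53,52,53,54,52,47,53,52] 0 672 = true := by decide +kernel
theorem c131 : oneAll 16 (appT tabs t55 0xffff) [54,53,48,52,53,46,54,53,48,52,53,54,46,53,52,48,53,54,46,53,52,48,53,46] 0 672 = true := by decide +kernel
theorem c132 : oneAll 16 (appT tabs t55 0xffff) [54,53,46,49,53,52,54,53,49,46,53,54,52,49,48,53,52,48,53,54,45,47,48,50,52,53,48,52,53,48,49,52] 0 672 = true := by decide +kernel
theorem c133 : eqAll 16 (appT tabs t55 0xffff) [0] (nth inW [] 0) 0 672 = true := by decide +kernel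
theorem c134 : eqAll 16 (appT tabs t55 0xffff) [1] (nth inW [] 1) 0 672 = true := by decide +kernel
theorem c135 : eqAll 16 (appT tabs t55 0xffff) [2] (nth inW [] 2) 0 672 = true := by decide +kernel

end Cfsg.Agent.CG.U62
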