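import Cfsg.Agent.Lib.Grp.U62.D0

set_option autoImplicit false
set_option maxRecDepth 100000
set_option Elab.async false
set_option linter.unusedSectionVars false

namespace Cfsg.Agent.CG.U62

noncomputable def tabs : List ℕ := [t0,t1,t2,t3,t4,t5,t6,t7,t8,t9,t10,t11,t12,t13,t14,t15,t16,t17,t18,t19,t20,t21,t22,t23,t24,t25,t26,t27,t28,t29,t30,t31,t32,t33,t34,t35,t36,t37,t38,t39,t40,t41,t42,t43,t44,t45,t46,t47,t48,t49,t50,t51,t52,t53,t54]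
noncomputable abbrev app : ℕ → ℕ → ℕ := appT tabs t55 0xffff
noncomputable def slpL : List (Bool × List ℕ) := [(false,[]),
  (false,[]),
  (false,[]),
  (false,[1,1]),
  (true,[3]),
  (false,[0]),
  (false,[3]),
  (true,[6]),
  (false,[5,3,3,3,0,5,0,4,0,5,0,3,0,5,0,4,4,4,5]),
  (false,[7,7,7,8]),
  (true,[9]),
  (false,[6,8,9,8]),
  (true,[11]),
  (false,[11,10,6]),
  (true,[13]),
  (false,[10,7,8,14,7]),
  (true,[15]),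
  (false,[8,14,9,11,7]),
  (true,[17]),
  (false,[10,6,9,11]),
  (true,[19]),
  (false,[15,18,15,18,15,19]),
  (true,[21]),
  (false,[16,20,20,16]),
  (true,[23]),
  (false,[19,18,15,15,17]),
  (true,[25]),
  (false,[22,22,22,24]),
  (true,[27]),
  (false,[24,22,25,24]),
  (true,[29]),
  (false,[26,24,26,26,24]),
  (true,[31]),
  (false,[28,32]),
  (true,[33]),
  (false,[30]),
  (true,[35]),
  (false,[27,31]),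
  (true,[37]),
  (false,[27,32,27]),
  (false,[34,37]),
  (false,[37,36,34]),
  (false,[36,39,34]),
  (false,[39,34,35]),
  (false,[43,42,41]),
  (false,[44]),
  (false,[42,40]),
  (false,[42,44]),
  (false,[43,40]),
  (false,[38,34,43]),
  (false,[28,33,42,40]),
  (true,[50]),
  (false,[22,25,25,28,39,40]),
  (false,[19,17,15,22,22,23,21,28,35,42,40,44]),
  (false,[9,6,12,8,16,16,16,22,24,21,37,34,40])]
noncomputable def slp (a : ℕ) : Bool × List ℕ := nth slpL (false, []) a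
noncomputable def invL : List ℕ := [0,2,1,4,3,5,7,6,8,10,9,12,11,14,13,16,15,18,17,20,19,22,21,24,23,26,25,28,27,30,29,32,31,34,33,36,35,38,37,39,40,41,42,43,44,45,46,47,48,49,51,50,52,53,54]
noncomputable def inv (a : ℕ) : ℕ := nth invL 55 a
noncomputable def bs : List ℕ := [0,4544,464,7552,2304,8688,2560]
noncomputable def mc0 : Lvl := ⟨0, [6,7,8,9,10,11,12,13,14], 672,
  fun i => look 0xffff mc0c (Nat.mul 16 i), fun i => look 0xfff mc0p (Nat.mul 12 i),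
  fun i => look 0xff mc0l (Nat.mul 8 i), fun i => look 0xff mc0i (Nat.mul 8 i), fun x => look 0xffff mc0q x, 5⟩
noncomputable def mc1 : Lvl := ⟨4544, [15,16,17,18,19,20], 176,
  fun i => look 0xffff mc1c (Nat.mul 16 i), fun i => look 0xff mc1p (Nat.mul 8 i),
  fun i => look 0xff mc1l (Nat.mul 8 i), fun i => look 0xff mc1i (Nat.mul 8 i), fun x => look 0xffff mc1q x, 5⟩
noncomputable def mc2 : Lvl := ⟨464, [21,22,23,24,25,26], 135,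
  fun i => look 0xffff mc2c (Nat.mul 16 i), fun i => look 0xff mc2p (Nat.mul 8 i),
  fun i => look 0xff mc2l (Nat.mul 8 i), fun i => look 0xff mc2i (Nat.mul 8 i), fun x => look 0xffff mc2q x, 4⟩
noncomputable def mc3 : Lvl := ⟨7552, [27,28], 3,
  fun i => look 0xffff mc3c (Nat.mul 16 i), fun i => look 0xf mc3p (Nat.mul 4 i),
  fun i => look 0xff mc3l (Nat.mul 8 i), fun i => look 0xff mc3i (Nat.mul 8 i), fun x => look 0xffff mc3q x, 1⟩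
noncomputable def mc4 : Lvl := ⟨2304, [33,34,35,36,37,38,39], 12,
  fun i => look 0xffff mc4c (Nat.mul 16 i), fun i => look 0xf mc4p (Nat.mul 4 i),
  fun i => look 0xff mc4l (Nat.mul 8 i), fun i => look 0xff mc4i (Nat.mul 8 i), fun x => look 0xffff mc4q x, 2⟩
noncomputable def mc5 : Lvl := ⟨8688, [40,41,42,43], 8,
  fun i => look 0xffff mc5c (Nat.mul 16 i), fun i => look 0xf mc5p (Nat.mul 4 i),
  fun i => look 0xff mc5l (Nat.mul 8 i), fun i => look 0xff mc5i (Nat.mul 8 i), fun x => look 0xffff mc5q x, 2⟩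
noncomputable def mc6 : Lvl := ⟨2560, [44], 2,
  fun i => look 0xffff mc6c (Nat.mul 16 i), fun i => look 0xf mc6p (Nat.mul 4 i),
  fun i => look 0xff mc6l (Nat.mul 8 i), fun i => look 0xff mc6i (Nat.mul 8 i), fun x => look 0xffff mc6q x, 1⟩
noncomputable def mc : List Lvl := [mc0, mc1, mc2, mc3, mc4, mc5, mc6]
noncomputable def tcR : List (List ℕ) := [[45,45],
  [46,46],
  [47,47],
  [48,48],
  [46,45,46,45],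
  [47,45,47,45],
  [48,45,48,45],
  [46,47,46,47],
  [46,48,46,48],
  [47,48,47,48],
  [49,49],
  [49,45,49,45],
  [49,46,49,46,49,46],
  [49,47,49,47,49,47],
  [49,48,49,48,49,48],
  [49,47,48,49,46,49,48,47,49,45,46,47,48],
  [50,51],
  [51,50],
  [50,50,50],
  [51,45,50,45],
  [51,46,50,48],
  [51,47,50,47],
  [51,49,50,49],
  [50,46,51,45,46,47,48],
  [52,52],
  [52,47,52,47],
  [52,45,52,45,47],
  [52,46,52,46,47],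
  [52,48,52,45,46,48],
  [52,51,52,49,52,50,52,49],
  [52,51,52,50,52,50,52,51],
  [52,49,47,52,49,52,49,52,47,49],
  [52,49,52,46,49,47,52,49,46,52,49,52,45,49,46,47,49],
  [53,53],
  [53,45,53,45],
  [53,50,53,51],
  [53,46,53,46,53,46],
  [53,47,53,47,53,47],
  [53,47,49,53,47,49,51],
  [53,47,52,49,52,53,47,52,49,52],
  [53,52,50,52,53,47,49,50,52,51,52],
  [54,54],
  [54,45,54,45],
  [54,46,54,46],
  [54,47,54,47],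
  [54,48,54,48],
  [54,49,54,49],
  [54,52,54,52],
  [54,50,54,52,50,52],
  [54,53,54,53,54,45,53],
  [45,54,53,52,53,54,53,52,53,54,52,47,53,52],
  [54,53,48,52,53,46,54,53,48,52,53,54,46,53,52,48,53,54,46,53,52,48,53,46],
  [54,53,46,49,53,52,54,53,49,46,53,54,52,49,48,53,52,48,53,54,45,47,48,50,52,53,48,52,53,48,49,52]]
noncomputable def tc0T : List ℕ := [0,0,0,0,0,0,0,0,0,0,0,0,0,0,0,0,0,0,0,0,0,0,0,0,0,0,0,0,0,0,0,0,0,0,0,0,0,0,0,0,0,0,0,0,0,tc0t45,tc0t46,tc0t47,tc0t48,tc0t49,tc0t50,tc0t51,tc0t52,tc0t53,tc0t54]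
noncomputable def tc0r : Tr Rule := (.node (.node (.node (.node (.node (.node (.node (.node (.leaf ⟨54,[54],41,1⟩) (.leaf ⟨54,[49,54,49],46,2⟩)) (.node (.leaf ⟨47,[49,51,53,47,49,53],38,4⟩) (.leaf ⟨53,[54,46,53,52,48,53,54,46,53,52,48,53,46,54,53,48,52,53,46,54,53,48,52],51,10⟩))) (.node (.node (.leaf ⟨45,[54,45,54],42,3⟩) (.leaf ⟨54,[45,53,54,53,54,53],49,4⟩)) (.node (.leaf ⟨49,[45,49,45],11,0⟩) (.leaf ⟨46,[49,53,52,54,53,49,46,53,54,52,49,48,53,52,48,53,54,45,47,48,50,52,53,48,52,53,48,49,52,54,53],52,2⟩)))) (.node (.node (.node (.leaf ⟨50,[53,51,53],35,1⟩) (.leaf ⟨52,[45,47,52,45],26,2⟩)) (.node (.leaf ⟨47,[46,47,46],7,3⟩) (.leaf ⟨52,[53,48,49,52,54,53,46,49,53,52,54,53,49,46,53,54,52,49,48,53,52,48,53,54,45,47,48,50,52,53,48],52,27⟩))) (.node (.node (.leaf ⟨48,[51,46,50],20,3⟩) (.leaf ⟨52,[53,54,53,52,53,54,52,47,53,52,45,54,53],50,3⟩))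 (.leaf ⟨52,[47,52,47],25,2⟩)))) (.node (.node (.node (.node (.leaf ⟨50,[51],16,0⟩) (.leaf ⟨49,[47,49,47,49,47],13,0⟩)) (.node (.leaf ⟨46,[48,46,48],8,0⟩) (.leaf ⟨52,[48,53,54,45,47,48,50,52,53,48,52,53,48,49,52,54,53,46,49,53,52,54,53,49,46,53,54,52,49,48,53],52,16⟩))) (.node (.node (.leaf ⟨45,[52,45,47,52],26,1⟩) (.leaf ⟨49,[46,49,46,49,46],12,2⟩)) (.leaf ⟨49,[52,49,52,47,49,52,49,47,52],31,4⟩))) (.node (.node (.node (.leaf ⟨47,[52,46,52,46],27,4⟩) (.leaf ⟨52,[53,47,52,49,52,53,47,52,49],39,9⟩)) (.node (.leaf ⟨50,[45,51,45],19,2⟩) (.leaf ⟨49,[53,52,54,53,49,46,53,54,52,49,48,53,52,48,53,54,45,47,48,50,52,53,48,52,53,48,49,52,54,53,46],52,3⟩))) (.node (.node (.leaf ⟨46,[53,46,53,46,53],36,3⟩) (.leaf ⟨52,[45,54,53,52,53,54,53,52,53,54,52,47,53],50,13⟩)) (.leaf ⟨48,[46,48,46],8,1⟩))))) (.node (.node (.node (.node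 (.node (.leaf ⟨48,[48],3,1⟩) (.leaf ⟨54,[48,54,48],45,0⟩)) (.node (.leaf ⟨53,[51,53,50],35,2⟩) (.leaf ⟨53,[46,54,53,48,52,53,46,54,53,48,52,53,54,46,53,52,48,53,54,46,53,52,48],51,22⟩))) (.node (.node (.leaf ⟨45,[48,45,48],6,3⟩) (.leaf ⟨54,[52,54,52],47,2⟩)) (.node (.leaf ⟨49,[51,53,47,49,53,47],38,5⟩) (.leaf ⟨47,[48,50,52,53,48,52,53,48,49,52,54,53,46,49,53,52,54,53,49,46,53,54,52,49,48,53,52,48,53,54,45],52,21⟩)))) (.node (.node (.node (.leaf ⟨50,[47,51,47],21,2⟩) (.leaf ⟨52,[54,52,54],47,1⟩)) (.node (.leaf ⟨46,[47,48,50,46,51,45],23,4⟩) (.leaf ⟨54,[52,49,48,53,52,48,53,54,45,47,48,50,52,53,48,52,53,48,49,52,54,53,46,49,53,52,54,53,49,46,53],52,11⟩))) (.node (.node (.leaf ⟨48,[49,48,49,48,49],14,3⟩) (.leaf ⟨47,[53,52,45,54,53,52,53,54,53,52,53,54,52],50,11⟩)) (.leaf ⟨52,[50,52,54,50,54],48,3⟩)))) (.node (.node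 (.node (.node (.leaf ⟨47,[52,47,52],25,3⟩) (.leaf ⟨49,[47,49,47,49,47],13,2⟩)) (.node (.leaf ⟨48,[47,48,47],9,3⟩) (.leaf ⟨49,[48,53,52,48,53,54,45,47,48,50,52,53,48,52,53,48,49,52,54,53,46,49,53,52,54,53,49,46,53,54,52],52,13⟩))) (.node (.node (.leaf ⟨52,[45,52,45,47],26,0⟩) (.leaf ⟨52,[53,54,52,47,53,52,45,54,53,52,53,54,53],50,7⟩)) (.leaf ⟨54,[48,54,48],45,2⟩))) (.node (.node (.node (.leaf ⟨53,[47,53,47,53,47],37,4⟩) (.leaf ⟨52,[50,52,53,47,49,50,52,51,52,53],40,1⟩)) (.node (.leaf ⟨47,[49,50,52,51,52,53,52,50,52,53],40,5⟩) (.leaf ⟨54,[53,49,46,53,54,52,49,48,53,52,48,53,54,45,47,48,50,52,53,48,52,53,48,49,52,54,53,46,49,53,52],52,6⟩))) (.node (.node (.leaf ⟨47,[49,47,49,47,49],13,3⟩) (.leaf ⟨52,[53,54,46,53,52,48,53,54,46,53,52,48,53,46,54,53,48,52,53,46,54,53,48],51,9⟩)) (.leaf ⟨52,[45,46,48,52,48],28,2⟩))))))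 (.node (.node (.node (.node (.node (.node (.leaf ⟨46,[46],1,1⟩) (.leaf ⟨48,[54,48,54],45,1⟩)) (.node (.leaf ⟨49,[52,53,47,52,49,52,53,47,52],39,8⟩) (.leaf ⟨53,[48,52,53,54,46,53,52,48,53,54,46,53,52,48,53,46,54,53,48,52,53,46,54],51,7⟩))) (.node (.node (.leaf ⟨45,[46,45,46],4,3⟩) (.leaf ⟨54,[53,54,45,53,54,53],49,2⟩)) (.node (.leaf ⟨47,[52,45,52,45],26,4⟩) (.leaf ⟨52,[54,53,46,49,53,52,54,53,49,46,53,54,52,49,48,53,52,48,53,54,45,47,48,50,52,53,48,52,53,48,49],52,31⟩)))) (.node (.node (.node (.leaf ⟨51,[46,50,48],20,0⟩) (.leaf ⟨46,[45,46,45],4,0⟩)) (.node (.leaf ⟨51,[45,46,47,48,50,46],23,2⟩) (.leaf ⟨53,[48,52,53,48,49,52,54,53,46,49,53,52,54,53,49,46,53,54,52,49,48,53,52,48,53,54,45,47,48,50,52],52,25⟩))) (.node (.node (.leaf ⟨47,[53,47,53,47,53],37,3⟩) (.leaf ⟨53,[54,52,47,53,52,45,54,53,52,53,54,53,52],50,8⟩))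 (.leaf ⟨48,[45,48,45],6,2⟩)))) (.node (.node (.node (.node (.leaf ⟨46,[47,46,47],7,2⟩) (.leaf ⟨54,[46,54,46],43,2⟩)) (.node (.leaf ⟨48,[49,48,49,48,49],14,5⟩) (.leaf ⟨48,[53,54,45,47,48,50,52,53,48,52,53,48,49,52,54,53,46,49,53,52,54,53,49,46,53,54,52,49,48,53,52],52,17⟩))) (.node (.node (.leaf ⟨45,[51,45,50],19,3⟩) (.leaf ⟨45,[48,45,48],6,1⟩)) (.leaf ⟨51,[52,51,52,50,52,50,52],30,7⟩))) (.node (.node (.node (.leaf ⟨52,[47,52,47],25,0⟩) (.leaf ⟨52,[53,47,49,50,52,51,52,53,52,50],40,3⟩)) (.node (.leaf ⟨47,[45,47,45],5,2⟩) (.leaf ⟨53,[48,49,52,54,53,46,49,53,52,54,53,49,46,53,54,52,49,48,53,52,48,53,54,45,47,48,50,52,53,48,52],52,28⟩))) (.node (.node (.leaf ⟨49,[46,49,46,49,46],12,4⟩) (.leaf ⟨52,[46,52,46,47],27,0⟩)) (.leaf ⟨49,[45,49,45],11,2⟩))))) (.node (.node (.node (.node (.node (.leaf ⟨49,[49],10,1⟩) (.leaf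 ⟨54,[47,54,47],44,2⟩)) (.node (.leaf ⟨48,[50,46,51,45,46,47],23,6⟩) (.leaf ⟨53,[48,52,53,46,54,53,48,52,53,54,46,53,52,48,53,54,46,53,52,48,53,46,54],51,1⟩))) (.node (.node (.leaf ⟨45,[50,45,51],19,1⟩) (.leaf ⟨53,[54,53,54,53,54,45],49,6⟩)) (.leaf ⟨49,[52,49,47,52,49,52,49,52,47],31,9⟩))) (.node (.node (.node (.leaf ⟨50,[49,51,49],22,2⟩) (.leaf ⟨53,[47,52,49,52,53,47,52,49,52],39,5⟩)) (.node (.leaf ⟨51,[52,53,52,50,52,53,47,49,50,52],40,9⟩) (.leaf ⟨53,[52,54,53,49,46,53,54,52,49,48,53,52,48,53,54,45,47,48,50,52,53,48,52,53,48,49,52,54,53,46,49],52,4⟩))) (.node (.node (.leaf ⟨47,[50,47,51],21,1⟩) (.leaf ⟨53,[52,53,54,53,52,53,54,52,47,53,52,45,54],50,2⟩)) (.leaf ⟨46,[53,46,53,46,53],36,5⟩)))) (.node (.node (.node (.node (.leaf ⟨50,[50,50],18,2⟩) (.leaf ⟨53,[47,49,50,52,51,52,53,52,50,52],40,4⟩)) (.node (.leaf ⟨51,[52,49,52,50,52,49,52],29,1⟩)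 (.leaf ⟨48,[53,52,48,53,54,45,47,48,50,52,53,48,52,53,48,49,52,54,53,46,49,53,52,54,53,49,46,53,54,52,49],52,14⟩))) (.node (.node (.leaf ⟨49,[48,49,48,49,48],14,4⟩) (.leaf ⟨52,[47,53,52,45,54,53,52,53,54,53,52,53,54],50,10⟩)) (.leaf ⟨52,[46,49,47,52,49,46,52,49,52,45,49,46,47,49,52,49],32,2⟩))) (.node (.node (.node (.leaf ⟨52,[46,47,52,46],27,2⟩) (.leaf ⟨52,[53,52,50,52,53,47,49,50,52,51],40,10⟩)) (.node (.leaf ⟨45,[46,45,46],4,1⟩) (.leaf ⟨49,[52,54,53,46,49,53,52,54,53,49,46,53,54,52,49,48,53,52,48,53,54,45,47,48,50,52,53,48,52,53,48],52,30⟩))) (.node (.node (.leaf ⟨46,[50,48,51],20,1⟩) (.leaf ⟨48,[52,53,54,46,53,52,48,53,54,46,53,52,48,53,46,54,53,48,52,53,46,54,53],51,8⟩)) (.leaf ⟨45,[47,45,47],5,1⟩))))))) (.node (.node (.node (.node (.node (.node (.node (.leaf ⟨53,[53],33,1⟩) (.leaf ⟨54,[45,54,45],42,2⟩))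 (.node (.leaf ⟨52,[54,52,54],47,3⟩) (.leaf ⟨53,[54,46,53,52,48,53,46,54,53,48,52,53,46,54,53,48,52,53,54,46,53,52,48],51,16⟩))) (.node (.node (.leaf ⟨45,[53,45,53],34,3⟩) (.leaf ⟨53,[54,45,53,54,53,54],49,3⟩)) (.node (.leaf ⟨53,[45,53,45],34,0⟩) (.leaf ⟨48,[50,52,53,48,52,53,48,49,52,54,53,46,49,53,52,54,53,49,46,53,54,52,49,48,53,52,48,53,54,45,47],52,22⟩)))) (.node (.node (.node (.leaf ⟨50,[48,51,46],20,2⟩) (.leaf ⟨54,[45,54,45],42,0⟩)) (.node (.leaf ⟨47,[51,47,50],21,3⟩) (.leaf ⟨48,[52,53,48,49,52,54,53,46,49,53,52,54,53,49,46,53,54,52,49,48,53,52,48,53,54,45,47,48,50,52,53],52,26⟩))) (.node (.node (.leaf ⟨53,[50,53,51],35,0⟩) (.leaf ⟨54,[53,52,53,54,52,47,53,52,45,54,53,52,53],50,5⟩)) (.leaf ⟨45,[49,45,49],11,1⟩)))) (.node (.node (.node (.node (.leaf ⟨45,[45],0,1⟩) (.leaf ⟨47,[46,47,46],7,1⟩)) (.node (.leaf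 ⟨49,[51,49,50],22,3⟩) (.leaf ⟨53,[54,52,49,48,53,52,48,53,54,45,47,48,50,52,53,48,52,53,48,49,52,54,53,46,49,53,52,54,53,49,46],52,10⟩))) (.node (.node (.leaf ⟨52,[48,52,45,46,48],28,0⟩) (.leaf ⟨46,[54,46,54],43,1⟩)) (.leaf ⟨51,[45,50,45],19,0⟩))) (.node (.node (.node (.leaf ⟨46,[52,46,47,52],27,1⟩) (.leaf ⟨53,[47,52,49,52,53,47,52,49,52],39,0⟩)) (.node (.leaf ⟨50,[46,51,45,46,47,48],23,0⟩) (.leaf ⟨52,[54,53,49,46,53,54,52,49,48,53,52,48,53,54,45,47,48,50,52,53,48,52,53,48,49,52,54,53,46,49,53],52,5⟩))) (.node (.node (.leaf ⟨46,[47,52,46,52],27,3⟩) (.leaf ⟨54,[52,54,52],47,0⟩)) (.leaf ⟨45,[53,45,53],34,1⟩))))) (.node (.node (.node (.node (.node (.leaf ⟨52,[52],24,1⟩) (.leaf ⟨54,[49,54,49],46,0⟩)) (.node (.leaf ⟨49,[53,47,49,51,53,47],38,2⟩) (.leaf ⟨46,[54,53,48,52,53,54,46,53,52,48,53,54,46,53,52,48,53,46,54,53,48,52,53],51,5⟩)))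 (.node (.node (.leaf ⟨45,[49,45,49],11,3⟩) (.leaf ⟨53,[54,53,54,45,53,54],49,1⟩)) (.node (.leaf ⟨47,[52,49,52,53,47,52,49,52,53],39,6⟩) (.leaf ⟨53,[46,49,53,52,54,53,49,46,53,54,52,49,48,53,52,48,53,54,45,47,48,50,52,53,48,52,53,48,49,52,54],52,1⟩)))) (.node (.node (.node (.leaf ⟨51,[49,50,49],22,0⟩) (.leaf ⟨45,[54,45,54],42,1⟩)) (.node (.leaf ⟨53,[47,53,47,53,47],37,2⟩) (.leaf ⟨49,[46,53,54,52,49,48,53,52,48,53,54,45,47,48,50,52,53,48,52,53,48,49,52,54,53,46,49,53,52,54,53],52,8⟩))) (.node (.node (.leaf ⟨47,[54,47,54],44,3⟩) (.leaf ⟨45,[54,53,52,53,54,53,52,53,54,52,47,53,52],50,0⟩)) (.leaf ⟨52,[54,50,54,52,50],48,5⟩)))) (.node (.node (.node (.node (.leaf ⟨47,[48,47,48],9,2⟩) (.leaf ⟨53,[47,49,53,47,49,51],38,0⟩)) (.node (.leaf ⟨48,[52,48,52,45,46],28,5⟩) (.leaf ⟨53,[54,45,47,48,50,52,53,48,52,53,48,49,52,54,53,46,49,53,52,54,53,49,46,53,54,52,49,48,53,52,48],52,18⟩)))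 (.node (.node (.leaf ⟨47,[45,47,45],5,0⟩) (.leaf ⟨53,[52,53,54,52,47,53,52,45,54,53,52,53,54],50,6⟩)) (.leaf ⟨47,[49,52,49,52,46,49,47,52,49,46,52,49,52,45,49,46],32,15⟩))) (.node (.node (.node (.leaf ⟨53,[46,53,46,53,46],36,4⟩) (.leaf ⟨52,[50,52,51,52,51,52,50],30,4⟩)) (.node (.leaf ⟨46,[47,46,47],7,0⟩) (.leaf ⟨50,[52,53,48,52,53,48,49,52,54,53,46,49,53,52,54,53,49,46,53,54,52,49,48,53,52,48,53,54,45,47,48],52,23⟩))) (.node (.node (.leaf ⟨48,[54,48,54],45,3⟩) (.leaf ⟨48,[53,54,46,53,52,48,53,46,54,53,48,52,53,46,54,53,48,52,53,54,46,53,52],51,15⟩)) (.leaf ⟨47,[52,47,52],25,1⟩)))))) (.node (.node (.node (.node (.node (.node (.leaf ⟨47,[47],2,1⟩) (.leaf ⟨54,[47,54,47],44,0⟩)) (.node (.leaf ⟨50,[52,54,50,54,52],48,4⟩) (.leaf ⟨53,[52,48,53,46,54,53,48,52,53,46,54,53,48,52,53,54,46,53,52,48,53,54,46],51,19⟩))) (.node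 (.node (.leaf ⟨45,[47,45,47],5,3⟩) (.leaf ⟨45,[53,54,53,54,53,54],49,5⟩)) (.node (.leaf ⟨46,[45,46,45],4,2⟩) (.leaf ⟨54,[53,46,49,53,52,54,53,49,46,53,54,52,49,48,53,52,48,53,54,45,47,48,50,52,53,48,52,53,48,49,52],52,0⟩)))) (.node (.node (.node (.leaf ⟨51,[47,50,47],21,0⟩) (.leaf ⟨54,[46,54,46],43,0⟩)) (.node (.leaf ⟨47,[48,47,48],9,0⟩) (.leaf ⟨53,[49,46,53,54,52,49,48,53,52,48,53,54,45,47,48,50,52,53,48,52,53,48,49,52,54,53,46,49,53,52,54],52,7⟩))) (.node (.node (.leaf ⟨46,[49,46,49,46,49],12,3⟩) (.leaf ⟨54,[52,47,53,52,45,54,53,52,53,54,53,52,53],50,9⟩)) (.leaf ⟨53,[47,53,47,53,47],37,0⟩)))) (.node (.node (.node (.node (.leaf ⟨46,[48,46,48],8,2⟩) (.leaf ⟨49,[54,49,54],46,1⟩)) (.node (.leaf ⟨48,[46,48,46],8,3⟩) (.leaf ⟨53,[52,48,53,54,45,47,48,50,52,53,48,52,53,48,49,52,54,53,46,49,53,52,54,53,49,46,53,54,52,49,48],52,15⟩)))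 (.node (.node (.leaf ⟨48,[52,45,46,48,52],28,1⟩) (.leaf ⟨53,[46,53,46,53,46],36,0⟩)) (.leaf ⟨51,[52,50,52,50,52,51,52],30,1⟩))) (.node (.node (.node (.leaf ⟨49,[47,49,47,49,47],13,4⟩) (.leaf ⟨50,[52,51,52,51,52,50,52],30,5⟩)) (.node (.leaf ⟨47,[49,47,49,47,49],13,5⟩) (.leaf ⟨46,[53,54,52,49,48,53,52,48,53,54,45,47,48,50,52,53,48,52,53,48,49,52,54,53,46,49,53,52,54,53,49],52,9⟩))) (.node (.node (.leaf ⟨49,[50,49,51],22,1⟩) (.leaf ⟨52,[48,53,54,46,53,52,48,53,46,54,53,48,52,53,46,54,53,48,52,53,54,46,53],51,14⟩)) (.leaf ⟨53,[46,53,46,53,46],36,2⟩))))) (.node (.node (.node (.node (.node (.leaf ⟨51,[50],16,1⟩) (.leaf ⟨46,[49,46,49,46,49],12,5⟩)) (.node (.leaf ⟨48,[47,48,47],9,1⟩) (.leaf ⟨46,[53,52,48,53,46,54,53,48,52,53,46,54,53,48,52,53,54,46,53,52,48,53,54],51,18⟩))) (.node (.node (.leaf ⟨45,[47,52,45,52],26,3⟩)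 (.leaf ⟨46,[51,45,46,47,48,50],23,1⟩)) (.leaf ⟨49,[47,52,49,52,49,52,47,49,52],31,1⟩))) (.node (.node (.node (.leaf ⟨50,[50,50],18,1⟩) (.leaf ⟨53,[47,49,51,53,47,49],38,3⟩)) (.node (.leaf ⟨50,[52,53,47,49,50,52,51,52,53,52],40,2⟩) (.leaf ⟨52,[53,48,52,53,48,49,52,54,53,46,49,53,52,54,53,49,46,53,54,52,49,48,53,52,48,53,54,45,47,48,50],52,24⟩))) (.node (.node (.leaf ⟨53,[45,53,45],34,2⟩) (.leaf ⟨53,[52,45,54,53,52,53,54,53,52,53,54,52,47],50,12⟩)) (.leaf ⟨47,[48,50,46,51,45,46],23,5⟩)))) (.node (.node (.node (.node (.leaf ⟨51,[53,50,53],35,3⟩) (.leaf ⟨52,[49,46,52,49,52,45,49,46,47,49,52,49,52,46,49,47],32,6⟩)) (.node (.leaf ⟨47,[49,53,47,49,51,53],38,1⟩) (.leaf ⟨52,[49,48,53,52,48,53,54,45,47,48,50,52,53,48,52,53,48,49,52,54,53,46,49,53,52,54,53,49,46,53,54],52,12⟩))) (.node (.node (.leaf ⟨46,[54,46,54],43,3⟩)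 (.leaf ⟨53,[54,53,52,53,54,52,47,53,52,45,54,53,52],50,4⟩)) (.leaf ⟨52,[49,52,45,49,46,47,49,52,49,52,46,49,47,52,49,46],32,9⟩))) (.node (.node (.node (.leaf ⟨51,[53,47,49,53,47,49],38,6⟩) (.leaf ⟨52,[51,52,53,52,50,52,53,47,49,50],40,8⟩)) (.node (.leaf ⟨48,[45,48,45],6,0⟩) (.leaf ⟨48,[49,52,54,53,46,49,53,52,54,53,49,46,53,54,52,49,48,53,52,48,53,54,45,47,48,50,52,53,48,52,53],52,29⟩))) (.node (.node (.leaf ⟨49,[54,49,54],46,3⟩) (.leaf ⟨53,[52,48,53,54,46,53,52,48,53,46,54,53,48,52,53,46,54,53,48,52,53,54,46],51,13⟩)) (.leaf ⟨50,[54,52,50,52,54],48,1⟩))))))))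
noncomputable def tc0 : TCL := ⟨[45,46,47,48,49,50,51,52,53,54], [45,46,47,48,49,50,51,52,53], 672, 32, 0x7fff, 15, 0xff,
  fun a x => look 0xffffffff (nth tc0T 0 a) x, fun x => look 0xffffffff tc0d x, tc0r⟩
noncomputable def tc1T : List ℕ := [0,0,0,0,0,0,0,0,0,0,0,0,0,0,0,0,0,0,0,0,0,0,0,0,0,0,0,0,0,0,0,0,0,0,0,0,0,0,0,0,0,0,0,0,0,tc1t45,tc1t46,tc1t47,tc1t48,tc1t49,tc1t50,tc1t51,tc1t52,tc1t53]
noncomputable def tc1r : Tr Rule := (.node (.node (.node (.node (.node (.node (.node (.node (.leaf ⟨53,[53],33,1⟩) (.leaf ⟨52,[49,52,51,52,49,52,50],29,6⟩)) (.leaf ⟨51,[46,50,48],20,0⟩)) (.node (.leaf ⟨50,[47,51,47],21,2⟩) (.leaf ⟨51,[52,50,52,50,52,51,52],30,1⟩))) (.node (.node (.leaf ⟨49,[47,49,47,49,47],13,4⟩) (.leaf ⟨46,[50,48,51],20,1⟩)) (.node (.leaf ⟨46,[49,46,49,46,49],12,3⟩) (.leaf ⟨45,[53,45,53],34,1⟩)))) (.node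 (.node (.node (.node (.leaf ⟨45,[45],0,1⟩) (.leaf ⟨53,[47,52,49,52,53,47,52,49,52],39,0⟩)) (.leaf ⟨47,[51,47,50],21,3⟩)) (.node (.leaf ⟨53,[51,53,50],35,2⟩) (.leaf ⟨48,[45,48,45],6,2⟩))) (.node (.node (.leaf ⟨45,[52,45,47,52],26,1⟩) (.leaf ⟨49,[53,47,49,51,53,47],38,2⟩)) (.node (.leaf ⟨51,[53,47,49,53,47,49],38,6⟩) (.leaf ⟨49,[48,49,48,49,48],14,0⟩))))) (.node (.node (.node (.node (.node (.leaf ⟨52,[52],24,1⟩) (.leaf ⟨46,[48,52,48,52,45],28,4⟩)) (.leaf ⟨50,[46,51,45,46,47,48],23,0⟩)) (.node (.leaf ⟨46,[48,46,48],8,0⟩) (.leaf ⟨47,[52,47,52],25,1⟩))) (.node (.node (.leaf ⟨45,[48,45,48],6,3⟩) (.leaf ⟨49,[45,49,45],11,0⟩)) (.node (.leaf ⟨46,[49,48,47,49,45,46,47,48,49,47,48,49],15,4⟩) (.leaf ⟨53,[46,53,46,53,46],36,2⟩)))) (.node (.node (.node (.node (.leaf ⟨47,[48,47,48],9,2⟩) (.leaf ⟨46,[49,46,49,46,49],12,1⟩)) (.leaf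 ⟨53,[47,53,47,53,47],37,2⟩)) (.node (.leaf ⟨53,[47,53,47,53,47],37,4⟩) (.leaf ⟨52,[51,52,50,52,50,52,51],30,0⟩))) (.node (.node (.leaf ⟨49,[48,49,48,49,48],14,4⟩) (.leaf ⟨49,[52,49,47,52,49,52,49,52,47],31,9⟩)) (.node (.leaf ⟨48,[49,46,49,48,47,49,45,46,47,48,49,47],15,2⟩) (.leaf ⟨53,[47,49,50,52,51,52,53,52,50,52],40,4⟩)))))) (.node (.node (.node (.node (.node (.node (.leaf ⟨47,[47],2,1⟩) (.leaf ⟨52,[50,52,50,52,51,52,51],30,2⟩)) (.leaf ⟨50,[49,51,49],22,2⟩)) (.node (.leaf ⟨48,[50,46,51,45,46,47],23,6⟩) (.leaf ⟨52,[46,49,47,52,49,46,52,49,52,45,49,46,47,49,52,49],32,2⟩))) (.node (.node (.leaf ⟨45,[46,45,46],4,3⟩) (.leaf ⟨45,[46,45,46],4,1⟩)) (.node (.leaf ⟨47,[49,47,49,47,49],13,3⟩) (.leaf ⟨49,[45,49,45],11,2⟩)))) (.node (.node (.node (.node (.leaf ⟨46,[48,46,48],8,2⟩) (.leaf ⟨53,[47,49,53,47,49,51],38,0⟩)) (.leaf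 ⟨47,[46,47,46],7,3⟩)) (.node (.leaf ⟨46,[53,46,53,46,53],36,3⟩) (.leaf ⟨46,[53,46,53,46,53],36,5⟩))) (.node (.node (.leaf ⟨45,[51,45,50],19,3⟩) (.leaf ⟨47,[52,49,52,53,47,52,49,52,53],39,6⟩)) (.node (.leaf ⟨48,[46,48,46],8,3⟩) (.leaf ⟨50,[52,51,52,51,52,50,52],30,5⟩))))) (.node (.node (.node (.node (.node (.leaf ⟨51,[50],16,1⟩) (.leaf ⟨52,[45,47,52,45],26,2⟩)) (.leaf ⟨47,[49,53,47,49,51,53],38,1⟩)) (.node (.leaf ⟨51,[52,49,52,50,52,49,52],29,1⟩) (.leaf ⟨51,[45,50,45],19,0⟩))) (.node (.node (.leaf ⟨45,[50,45,51],19,1⟩) (.leaf ⟨46,[47,52,46,52],27,3⟩)) (.node (.leaf ⟨48,[47,49,45,46,47,48,49,47,48,49,46,49],15,6⟩) (.leaf ⟨45,[47,45,47],5,1⟩)))) (.node (.node (.node (.node (.leaf ⟨46,[52,46,47,52],27,1⟩) (.leaf ⟨52,[53,47,49,50,52,51,52,53,52,50],40,3⟩)) (.leaf ⟨49,[50,52,51,52,53,52,50,52,53,47],40,6⟩)) (.node (.leaf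 ⟨47,[53,47,53,47,53],37,5⟩) (.leaf ⟨48,[46,48,46],8,1⟩))) (.node (.node (.leaf ⟨50,[53,51,53],35,1⟩) (.leaf ⟨49,[52,49,52,47,49,52,49,47,52],31,4⟩)) (.node (.leaf ⟨50,[52,53,47,49,50,52,51,52,53,52],40,2⟩) (.leaf ⟨52,[49,46,52,49,52,45,49,46,47,49,52,49,52,46,49,47],32,6⟩))))))) (.node (.node (.node (.node (.node (.node (.node (.leaf ⟨46,[46],1,1⟩) (.leaf ⟨52,[51,52,49,52,50,52,49],29,0⟩)) (.leaf ⟨51,[49,50,49],22,0⟩)) (.node (.leaf ⟨50,[50,50],18,1⟩) (.leaf ⟨46,[47,48,50,46,51,45],23,4⟩))) (.node (.node (.leaf ⟨45,[53,45,53],34,3⟩) (.leaf ⟨46,[47,46,47],7,0⟩)) (.node (.leaf ⟨48,[49,48,49,48,49],14,3⟩) (.leaf ⟨46,[45,46,45],4,2⟩)))) (.node (.node (.node (.node (.leaf ⟨46,[47,46,47],7,2⟩) (.leaf ⟨53,[47,49,51,53,47,49],38,3⟩)) (.leaf ⟨47,[50,47,51],21,1⟩)) (.node (.leaf ⟨53,[50,53,51],35,0⟩) (.leaf ⟨53,[47,53,47,53,47],37,0⟩)))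 (.node (.node (.leaf ⟨52,[48,52,45,46,48],28,0⟩) (.leaf ⟨50,[52,49,52,51,52,49,52],29,5⟩)) (.node (.leaf ⟨49,[52,53,47,52,49,52,53,47,52],39,8⟩) (.leaf ⟨49,[52,51,52,49,52,50,52],29,7⟩))))) (.node (.node (.node (.node (.node (.leaf ⟨49,[49],10,1⟩) (.leaf ⟨46,[45,46,45],4,0⟩)) (.leaf ⟨50,[50,50],18,2⟩)) (.node (.leaf ⟨49,[46,49,46,49,46],12,4⟩) (.leaf ⟨52,[47,52,47],25,2⟩))) (.node (.node (.leaf ⟨45,[49,45,49],11,3⟩) (.leaf ⟨53,[45,53,45],34,0⟩)) (.node (.leaf ⟨47,[48,49,46,49,48,47,49,45,46,47,48,49],15,1⟩) (.leaf ⟨52,[45,46,48,52,48],28,2⟩)))) (.node (.node (.node (.node (.leaf ⟨47,[52,46,52,46],27,4⟩) (.leaf ⟨52,[50,52,53,47,49,50,52,51,52,53],40,1⟩)) (.leaf ⟨53,[45,53,45],34,2⟩)) (.node (.leaf ⟨47,[53,47,53,47,53],37,3⟩) (.leaf ⟨47,[48,50,46,51,45,46],23,5⟩))) (.node (.node (.leaf ⟨51,[53,50,53],35,3⟩) (.leaf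 ⟨49,[47,52,49,52,49,52,47,49,52],31,1⟩)) (.node (.leaf ⟨51,[52,53,52,50,52,53,47,49,50,52],40,9⟩) (.leaf ⟨52,[45,49,46,47,49,52,49,52,46,49,47,52,49,46,52,49],32,11⟩)))))) (.node (.node (.node (.node (.node (.node (.leaf ⟨48,[48],3,1⟩) (.leaf ⟨52,[46,52,46,47],27,0⟩)) (.leaf ⟨51,[47,50,47],21,0⟩)) (.node (.leaf ⟨48,[47,48,47],9,1⟩) (.leaf ⟨52,[49,52,45,49,46,47,49,52,49,52,46,49,47,52,49,46],32,9⟩))) (.node (.node (.leaf ⟨45,[47,45,47],5,3⟩) (.leaf ⟨48,[45,48,45],6,0⟩)) (.node (.leaf ⟨48,[52,48,52,45,46],28,5⟩) (.leaf ⟨47,[48,47,48],9,0⟩)))) (.node (.node (.node (.node (.leaf ⟨47,[52,47,52],25,3⟩) (.leaf ⟨53,[47,52,49,52,53,47,52,49,52],39,5⟩)) (.leaf ⟨47,[49,47,49,47,49],13,5⟩)) (.node (.leaf ⟨48,[51,46,50],20,3⟩) (.leaf ⟨52,[50,52,49,52,51,52,49],29,4⟩))) (.node (.node (.leaf ⟨48,[52,45,46,48,52],28,1⟩) (.leaf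 ⟨52,[46,47,52,46],27,2⟩)) (.node (.leaf ⟨48,[47,48,47],9,3⟩) (.leaf ⟨47,[46,47,46],7,1⟩))))) (.node (.node (.node (.node (.node (.leaf ⟨50,[51],16,0⟩) (.leaf ⟨52,[51,52,51,52,50,52,50],30,6⟩)) (.leaf ⟨47,[45,47,45],5,2⟩)) (.node (.leaf ⟨53,[46,53,46,53,46],36,4⟩) (.leaf ⟨45,[49,45,49],11,1⟩))) (.node (.node (.leaf ⟨45,[47,52,45,52],26,3⟩) (.leaf ⟨52,[45,52,45,47],26,0⟩)) (.node (.leaf ⟨49,[51,53,47,49,53,47],38,5⟩) (.leaf ⟨46,[49,46,49,46,49],12,5⟩)))) (.node (.node (.node (.node (.leaf ⟨52,[47,52,47],25,0⟩) (.leaf ⟨49,[47,49,47,49,47],13,0⟩)) (.leaf ⟨49,[51,49,50],22,3⟩)) (.node (.leaf ⟨49,[50,49,51],22,1⟩) (.leaf ⟨48,[49,48,49,48,49],14,5⟩))) (.node (.node (.leaf ⟨50,[48,51,46],20,2⟩) (.leaf ⟨51,[52,51,52,50,52,50,52],30,7⟩)) (.node (.leaf ⟨50,[45,51,45],19,2⟩) (.leaf ⟨52,[49,52,50,52,49,52,51],29,2⟩))))))))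
noncomputable def tc1 : TCL := ⟨[45,46,47,48,49,50,51,52,53], [45,46,47,48,49,50,51,52], 176, 28, 0x1fff, 13, 0xff,
  fun a x => look 0xfffffff (nth tc1T 0 a) x, fun x => look 0xfffffff tc1d x, tc1r⟩
noncomputable def tc2T : List ℕ := [0,0,0,0,0,0,0,0,0,0,0,0,0,0,0,0,0,0,0,0,0,0,0,0,0,0,0,0,0,0,0,0,0,0,0,0,0,0,0,0,0,0,0,0,0,tc2t45,tc2t46,tc2t47,tc2t48,tc2t49,tc2t50,tc2t51,tc2t52]
noncomputable def tc2r : Tr Rule := (.node (.node (.node (.node (.node (.node (.node (.leaf ⟨52,[52],24,1⟩) (.leaf ⟨51,[49,50,49],22,0⟩)) (.leaf ⟨45,[52,45,47,52],26,1⟩)) (.node (.node (.leaf ⟨46,[50,48,51],20,1⟩) (.leaf ⟨52,[45,49,46,47,49,52,49,52,46,49,47,52,49,46,52,49],32,11⟩)) (.leaf ⟨48,[52,45,46,48,52],28,1⟩))) (.node (.node (.node (.leaf ⟨49,[50,49,51],22,1⟩) (.leaf ⟨49,[52,49,52,47,49,52,49,47,52],31,4⟩)) (.leaf ⟨47,[52,46,52,46],27,4⟩))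 (.node (.node (.leaf ⟨48,[49,48,49,48,49],14,3⟩) (.leaf ⟨47,[46,47,46],7,3⟩)) (.leaf ⟨50,[52,49,52,51,52,49,52],29,5⟩)))) (.node (.node (.node (.node (.leaf ⟨46,[46],1,1⟩) (.leaf ⟨51,[52,51,52,50,52,50,52],30,7⟩)) (.leaf ⟨48,[47,48,47],9,3⟩)) (.node (.node (.leaf ⟨50,[49,51,49],22,2⟩) (.leaf ⟨52,[49,52,51,52,49,52,50],29,6⟩)) (.leaf ⟨49,[45,49,45],11,0⟩))) (.node (.node (.node (.leaf ⟨48,[51,46,50],20,3⟩) (.leaf ⟨52,[47,52,47],25,2⟩)) (.leaf ⟨47,[49,47,49,47,49],13,3⟩)) (.node (.leaf ⟨45,[50,45,51],19,1⟩) (.leaf ⟨52,[47,52,47],25,0⟩))))) (.node (.node (.node (.node (.node (.leaf ⟨51,[50],16,1⟩) (.leaf ⟨50,[52,51,52,51,52,50,52],30,5⟩)) (.leaf ⟨50,[46,51,45,46,47,48],23,0⟩)) (.node (.node (.leaf ⟨50,[48,51,46],20,2⟩) (.leaf ⟨52,[49,52,50,52,49,52,51],29,2⟩)) (.leaf ⟨45,[46,45,46],4,1⟩))) (.node (.node (.node (.leaf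 ⟨46,[47,46,47],7,2⟩) (.leaf ⟨47,[45,47,45],5,2⟩)) (.leaf ⟨46,[52,46,47,52],27,1⟩)) (.node (.node (.leaf ⟨45,[49,45,49],11,3⟩) (.leaf ⟨52,[45,47,52,45],26,2⟩)) (.leaf ⟨51,[52,49,52,50,52,49,52],29,1⟩)))) (.node (.node (.node (.node (.leaf ⟨48,[48],3,1⟩) (.leaf ⟨50,[50,50],18,1⟩)) (.leaf ⟨46,[49,46,49,46,49],12,5⟩)) (.node (.node (.leaf ⟨49,[47,49,47,49,47],13,4⟩) (.leaf ⟨52,[50,52,51,52,51,52,50],30,4⟩)) (.leaf ⟨49,[45,49,45],11,2⟩))) (.node (.node (.node (.leaf ⟨47,[51,47,50],21,3⟩) (.leaf ⟨45,[48,45,48],6,1⟩)) (.leaf ⟨46,[48,52,48,52,45],28,4⟩)) (.node (.leaf ⟨45,[47,45,47],5,3⟩) (.leaf ⟨51,[45,46,47,48,50,46],23,2⟩)))))) (.node (.node (.node (.node (.node (.node (.leaf ⟨49,[49],10,1⟩) (.leaf ⟨50,[47,51,47],21,2⟩)) (.leaf ⟨45,[45],0,1⟩)) (.node (.node (.leaf ⟨46,[48,46,48],8,0⟩) (.leaf ⟨52,[49,46,52,49,52,45,49,46,47,49,52,49,52,46,49,47],32,6⟩))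 (.leaf ⟨52,[48,52,45,46,48],28,0⟩))) (.node (.node (.node (.leaf ⟨50,[50,50],18,2⟩) (.leaf ⟨47,[48,50,46,51,45,46],23,5⟩)) (.leaf ⟨52,[46,47,52,46],27,2⟩)) (.node (.node (.leaf ⟨45,[47,52,45,52],26,3⟩) (.leaf ⟨46,[45,46,45],4,0⟩)) (.leaf ⟨49,[52,50,52,49,52,51,52],29,3⟩)))) (.node (.node (.node (.node (.leaf ⟨47,[47],2,1⟩) (.leaf ⟨51,[52,50,52,50,52,51,52],30,1⟩)) (.leaf ⟨46,[47,46,47],7,0⟩)) (.node (.node (.leaf ⟨47,[52,47,52],25,3⟩) (.leaf ⟨52,[50,52,49,52,51,52,49],29,4⟩)) (.leaf ⟨49,[48,49,48,49,48],14,4⟩))) (.node (.node (.node (.leaf ⟨47,[48,47,48],9,2⟩) (.leaf ⟨48,[50,46,51,45,46,47],23,6⟩)) (.leaf ⟨48,[52,48,52,45,46],28,5⟩)) (.node (.leaf ⟨45,[46,45,46],4,3⟩) (.leaf ⟨51,[47,50,47],21,0⟩))))) (.node (.node (.node (.node (.node (.leaf ⟨50,[51],16,0⟩) (.leaf ⟨50,[52,50,52,51,52,51,52],30,3⟩)) (.leaf ⟨51,[46,50,48],20,0⟩))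 (.node (.node (.leaf ⟨48,[46,48,46],8,3⟩) (.leaf ⟨52,[51,52,49,52,50,52,49],29,0⟩)) (.leaf ⟨47,[46,47,46],7,1⟩))) (.node (.node (.node (.leaf ⟨46,[48,46,48],8,2⟩) (.leaf ⟨48,[47,48,47],9,1⟩)) (.leaf ⟨49,[46,49,46,49,46],12,4⟩)) (.node (.node (.leaf ⟨45,[51,45,50],19,3⟩) (.leaf ⟨52,[45,52,45,47],26,0⟩)) (.leaf ⟨51,[45,50,45],19,0⟩)))) (.node (.node (.node (.node (.leaf ⟨49,[51,49,50],22,3⟩) (.leaf ⟨49,[52,47,49,52,49,47,52,49,52],31,6⟩)) (.leaf ⟨46,[47,52,46,52],27,3⟩)) (.node (.node (.leaf ⟨46,[49,46,49,46,49],12,3⟩) (.leaf ⟨52,[51,52,50,52,50,52,51],30,0⟩)) (.leaf ⟨46,[51,45,46,47,48,50],23,1⟩))) (.node (.node (.node (.leaf ⟨47,[50,47,51],21,1⟩) (.leaf ⟨48,[46,48,46],8,1⟩)) (.leaf ⟨52,[45,46,48,52,48],28,2⟩)) (.node (.leaf ⟨45,[48,45,48],6,3⟩) (.leaf ⟨50,[45,51,45],19,2⟩)))))))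
noncomputable def tc2 : TCL := ⟨[45,46,47,48,49,50,51,52], [45,46,47,48,49,50,51], 135, 24, 0xfff, 12, 0x7f,
  fun a x => look 0xffffff (nth tc2T 0 a) x, fun x => look 0xffffff tc2d x, tc2r⟩
noncomputable def tc3T : List ℕ := [0,0,0,0,0,0,0,0,0,0,0,0,0,0,0,0,0,0,0,0,0,0,0,0,0,0,0,0,0,0,0,0,0,0,0,0,0,0,0,0,0,0,0,0,0,tc3t45,tc3t46,tc3t47,tc3t48,tc3t49,tc3t50,tc3t51]
noncomputable def tc3r : Tr Rule := (.node (.node (.node (.node (.leaf ⟨51,[50],16,1⟩) (.leaf ⟨47,[50,47,51],21,1⟩)) (.node (.leaf ⟨45,[50,45,51],19,1⟩) (.leaf ⟨46,[47,48,50,46,51,45],23,4⟩))) (.node (.node (.leaf ⟨50,[50,50],18,2⟩) (.leaf ⟨49,[50,49,51],22,1⟩)) (.leaf ⟨46,[50,48,51],20,1⟩))) (.node (.node (.node (.leaf ⟨50,[51],16,0⟩) (.leaf ⟨49,[51,49,50],22,3⟩)) (.leaf ⟨48,[51,46,50],20,3⟩)) (.node (.node (.leaf ⟨45,[51,45,50],19,3⟩) (.leaf ⟨48,[50,46,51,45,46,47],23,6⟩))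 (.leaf ⟨47,[51,47,50],21,3⟩))))
noncomputable def tc3 : TCL := ⟨[45,46,47,48,49,50,51], [45,46,47,48,49], 3, 16, 0x3f, 6, 0xf,
  fun a x => look 0xffff (nth tc3T 0 a) x, fun x => look 0xffff tc3d x, tc3r⟩
noncomputable def tc4T : List ℕ := [0,0,0,0,0,0,0,0,0,0,0,0,0,0,0,0,0,0,0,0,0,0,0,0,0,0,0,0,0,0,0,0,0,0,0,0,0,0,0,0,0,0,0,0,0,tc4t45,tc4t46,tc4t47,tc4t48,tc4t49]
noncomputable def tc4r : Tr Rule := (.node (.node (.node (.node (.node (.leaf ⟨49,[49],10,1⟩) (.leaf ⟨49,[48,49,48,49,48],14,4⟩)) (.leaf ⟨45,[49,45,49],11,3⟩)) (.node (.node (.leaf ⟨46,[47,46,47],7,2⟩) (.leaf ⟨47,[49,45,46,47,48,49,47,48,49,46,49,48],15,7⟩)) (.leaf ⟨49,[46,49,46,49,46],12,4⟩))) (.node (.node (.node (.leaf ⟨47,[47],2,1⟩) (.leaf ⟨49,[45,46,47,48,49,47,48,49,46,49,48,47],15,8⟩)) (.leaf ⟨45,[47,45,47],5,3⟩)) (.node (.leaf ⟨47,[48,47,48],9,2⟩)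 (.leaf ⟨47,[49,47,49,47,49],13,3⟩)))) (.node (.node (.node (.node (.leaf ⟨46,[46],1,1⟩) (.leaf ⟨48,[49,48,49,48,49],14,3⟩)) (.leaf ⟨45,[46,45,46],4,3⟩)) (.node (.node (.leaf ⟨46,[48,46,48],8,2⟩) (.leaf ⟨48,[47,49,45,46,47,48,49,47,48,49,46,49],15,6⟩)) (.leaf ⟨49,[47,49,47,49,47],13,4⟩))) (.node (.node (.node (.leaf ⟨48,[48],3,1⟩) (.leaf ⟨46,[49,48,47,49,45,46,47,48,49,47,48,49],15,4⟩)) (.leaf ⟨45,[48,45,48],6,3⟩)) (.node (.leaf ⟨46,[48,46,48],8,0⟩) (.leaf ⟨46,[49,46,49,46,49],12,3⟩)))))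
noncomputable def tc4 : TCL := ⟨[45,46,47,48,49], [45,46,47,48], 12, 16, 0xff, 8, 0x1f,
  fun a x => look 0xffff (nth tc4T 0 a) x, fun x => look 0xffff tc4d x, tc4r⟩
noncomputable def tc5T : List ℕ := [0,0,0,0,0,0,0,0,0,0,0,0,0,0,0,0,0,0,0,0,0,0,0,0,0,0,0,0,0,0,0,0,0,0,0,0,0,0,0,0,0,0,0,0,0,tc5t45,tc5t46,tc5t47,tc5t48]
noncomputable def tc5r : Tr Rule := (.node (.node (.node (.node (.leaf ⟨46,[46],1,1⟩) (.leaf ⟨47,[48,47,48],9,2⟩)) (.leaf ⟨45,[47,45,47],5,3⟩)) (.node (.leaf ⟨48,[48],3,1⟩) (.leaf ⟨46,[47,46,47],7,2⟩))) (.node (.node (.leaf ⟨47,[47],2,1⟩) (.leaf ⟨45,[48,45,48],6,3⟩)) (.node (.leaf ⟨45,[46,45,46],4,3⟩) (.leaf ⟨46,[48,46,48],8,2⟩))))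
noncomputable def tc5 : TCL := ⟨[45,46,47,48], [45], 8, 16, 0xff, 8, 0xf,
  fun a x => look 0xffff (nth tc5T 0 a) x, fun x => look 0xffff tc5d x, tc5r⟩
noncomputable def tc6T : List ℕ := [0,0,0,0,0,0,0,0,0,0,0,0,0,0,0,0,0,0,0,0,0,0,0,0,0,0,0,0,0,0,0,0,0,0,0,0,0,0,0,0,0,0,0,0,0,tc6t45]
noncomputable def tc6r : Tr Rule := (.leaf ⟨45,[45],0,1⟩)
noncomputable def tc6 : TCL := ⟨[45], [], 2, 16, 0x3f, 6, 0x3,
  fun a x => look 0xffff (nth tc6T 0 a) x, fun x => look 0xffff tc6d x, tc6r⟩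
noncomputable def tc : List TCL := [tc0, tc1, tc2, tc3, tc4, tc5, tc6]
noncomputable def inW : List (List ℕ) := [[48,47,49,52,46,53,54,53,52,47,46,49,48,47],
  [49,46,52,53,54,48,49,53,52,48,53,52,46,49,52,50,49,45],
  [49,48,53,52,49,46,53,54,52,48,53,48,49,52,46,51,49,52,51,48,47,49,48,47,45]]
noncomputable def tcS : List ℕ := [45,46,47,48,49,50,51,52,53,54]

end Cfsg.Agent.CG.U62
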